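/-
A nilpotent group `F` acting on `G` with `C_G(F) = 1`: every supplement of `G` in `GF` contains a `G`-conjugate
of `F` (elementary induction, no solubility of `G` is used).
-/
import Cfsg.Agent.Even.Amb2
import Cfsg.Agent.Grp.NilpSub
import Cfsg.Agent.Grp.CoresPi
import Cfsg.Agent.Grp.Fitting
import Cfsg.Agent.Grp.MinNormal

namespace CL.FH

open Cfsg Subgroup CL.Grp CL.Even

universe u

variable {X : Type u} [Group X]

/-- every supplement of `G` in `GF` contains a `G`-conjugate of `F` -/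
def St (G F : Subgroup X) : Prop := ∀ K : Subgroup X, K ≤ G ⊔ F → F ≤ G ⊔ K → ∃ g ∈ G, cj g F ≤ K

theorem disj {G F : Subgroup X} (hn : F ≤ 𝒩(G)) (hF : Group.IsNilpotent F) (hC : G ⊓ 𝒞(F) = ⊥) :
    G ⊓ F = ⊥ := by
  by_contra h
  obtain ⟨z, hz, h1, hc⟩ := exists_central_of_isNilpotent hF (inf_le_right : G ⊓ F ≤ F)
    (le_norm_inf hn le_normalizer) h
  have : z ∈ G ⊓ 𝒞(F) := ⟨hz.1, le_centralizer_singleton_iff.mp hc⟩
  rw [hC] at this
  exact h1 this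

theorem nrm {G F : Subgroup X} (hn : F ≤ 𝒩(G)) (hF : Group.IsNilpotent F) (hC : G ⊓ 𝒞(F) = ⊥) {g : X}
    (hg : g ∈ G) (h : cj g F ≤ F) : g = 1 := by
  have hd := disj hn hF hC
  have : g ∈ G ⊓ 𝒞(F) := by
    refine ⟨hg, mem_centralizer_iff.mpr fun f hf => ?_⟩
    have h1 : g * f * g⁻¹ * f⁻¹ ∈ G ⊓ F := by
      refine ⟨?_, F.mul_mem (h (conj_mem_cj g hf)) (F.inv_mem hf)⟩
      have := G.mul_mem hg (conj_mem (hn hf) (G.inv_mem hg))
      simpa [mul_assoc] using this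
    rw [hd, mem_bot] at h1
    have h2 : g * f = (g * f * g⁻¹ * f⁻¹) * (f * g) := by group
    rw [h2, h1, one_mul]
  rwa [hC] at this

theorem fix {G F Q : Subgroup X} (hn : F ≤ 𝒩(G)) (hF : Group.IsNilpotent F) (hC : G ⊓ 𝒞(F) = ⊥)
    (hQ : Q ≤ G) (hs : St Q F) {g : X} (hg : g ∈ G) (h : ∀ f ∈ F, g⁻¹ * (f * g * f⁻¹) ∈ Q) : g ∈ Q := by
  obtain ⟨q, hq, hqF⟩ := hs (cj g⁻¹ F) (by
      refine (conj_smul_le_iff _ _ _).mpr fun f hf => ?_
      have : g⁻¹ * f * g⁻¹⁻¹ = g⁻¹ * (f * g * f⁻¹) * f := by group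
      rw [this]
      exact mul_mem_sup (h f hf) hf) (by
      intro f hf
      have : f = (g⁻¹ * (f * g * f⁻¹))⁻¹ * (g⁻¹ * f * g⁻¹⁻¹) := by group
      rw [this]
      exact mul_mem_sup (Q.inv_mem (h f hf)) (conj_mem_cj _ hf))
  have h1 : g * q = 1 := nrm hn hF hC (G.mul_mem hg (hQ hq)) (by
    rw [cj_mul, cj_le_iff]; exact hqF)
  rw [eq_inv_of_mul_eq_one_left h1]
  exact Q.inv_mem hq

theorem ded {G A N : Subgroup X} (hn : A ≤ 𝒩(G)) (hA : A ≤ N) (h : N ≤ G ⊔ A) : N ≤ (G ⊓ N) ⊔ A := by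
  intro x hx
  obtain ⟨a, ha, b, hb, rfl⟩ := (mem_sup_nl hn).mp (h hx)
  exact mul_mem_sup ⟨ha, (N.mul_mem_cancel_right (hA hb)).mp hx⟩ hb

/-- the statement for all groups `G` of order `< n`, with `GF` the whole group -/
def Top (n : ℕ) : Prop :=
  ∀ (X : Type u) [Group X] [Finite X] (G F : Subgroup X), Nat.card G < n → G.Normal → G ⊔ F = ⊤ →
    Group.IsNilpotent F → G ⊓ 𝒞(F) = ⊥ → ∀ K : Subgroup X, G ⊔ K = ⊤ → ∃ g ∈ G, cj g F ≤ K

theorem rel [Finite X] {n : ℕ} (ih : Top.{u} n) {G F : Subgroup X} (hc : Nat.card G < n) (hn : F ≤ 𝒩(G))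
    (hF : Group.IsNilpotent F) (hC : G ⊓ 𝒞(F) = ⊥) : St G F := by
  intro K hK hFK
  have hGW : G ≤ G ⊔ F := le_sup_left
  have hFW : F ≤ G ⊔ F := le_sup_right
  obtain ⟨g, hg, h⟩ := ih (G ⊔ F : Subgroup X) (G.subgroupOf _) (F.subgroupOf _)
    (by rwa [Nat.card_congr (subgroupOfEquivOfLe hGW).toEquiv])
    (normal_subgroupOf_of_le_normalizer (sup_le le_normalizer hn))
    (by rw [← subgroupOf_sup hGW hFW, subgroupOf_self])
    (nilpotent_of_mulEquiv (subgroupOfEquivOfLe hFW).symm)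
    (by
      rw [eq_bot_iff]
      rintro x ⟨hx, hx'⟩
      have : (x : X) ∈ G ⊓ 𝒞(F) := ⟨hx, mem_centralizer_iff.mpr fun f hf =>
        congrArg Subtype.val (mem_centralizer_iff.mp hx' ⟨f, hFW hf⟩ hf)⟩
      rw [hC, mem_bot] at this
      exact mem_bot.mpr (Subtype.ext this))
    (K.subgroupOf _) (by rw [← subgroupOf_sup hGW hK, subgroupOf_eq_top]; exact sup_le le_sup_left hFK)
  refine ⟨g, hg, (conj_smul_le_iff _ _ _).mpr fun f hf => ?_⟩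
  exact (conj_smul_le_iff _ _ _).mp h ⟨f, hFW hf⟩ hf

/-- the step through a proper nontrivial normal subgroup -/
theorem step_normal [Finite X] {G F Q : Subgroup X} (ih : Top.{u} (Nat.card G)) [hG : G.Normal] [Q.Normal]
    (hGF : G ⊔ F = ⊤) (hF : Group.IsNilpotent F) (hC : G ⊓ 𝒞(F) = ⊥) (hQ : Q < G) (hQ1 : Q ≠ ⊥)
    {K : Subgroup X} (hK : G ⊔ K = ⊤) : ∃ g ∈ G, cj g F ≤ K := by
  have hnG : F ≤ 𝒩(G) := by rw [normalizer_eq_top]; exact le_top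
  have hnQ : ∀ L : Subgroup X, L ≤ 𝒩(Q) := fun L => by rw [normalizer_eq_top]; exact le_top
  have hs : St Q F := rel ih (card_lt_card_of_lt hQ) (hnQ F) hF
    (eq_bot_iff.mpr (hC ▸ inf_le_inf_right _ hQ.le))
  set π := QuotientGroup.mk' Q with hπ
  have hsu : Function.Surjective π := QuotientGroup.mk'_surjective Q
  have hk : π.ker = Q := QuotientGroup.ker_mk' Q
  obtain ⟨g, hg, h⟩ := ih (X ⧸ Q) (G.map π) (F.map π)
    (by
      have h1 := card_eq_card_inf_ker_mul_card_map π G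
      rw [hk, inf_eq_left.mpr hQ.le] at h1
      have h2 : 1 < Nat.card Q := one_lt_card_iff_ne_bot _ |>.mpr hQ1
      have h3 : 0 < Nat.card (G.map π) := Nat.card_pos
      nlinarith)
    (hG.map π hsu) (by rw [← Subgroup.map_sup, hGF, map_top_of_surjective _ hsu])
    (nilpotent_of_surjective (π.subgroupMap F) (π.subgroupMap_surjective F))
    (by
      rw [eq_bot_iff]
      rintro x ⟨⟨g, hg, rfl⟩, hx'⟩
      have : g ∈ Q := fix hnG hF hC hQ.le hs hg fun f hf => by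
        rw [← hk, MonoidHom.mem_ker]
        have := mem_centralizer_iff.mp hx' (π f) ⟨f, hf, rfl⟩
        simp only [map_mul, map_inv, this]
        group
      rwa [← hk] at this)
    (K.map π) (by rw [← Subgroup.map_sup, hK, map_top_of_surjective _ hsu])
  obtain ⟨g, hg, rfl⟩ := hg
  obtain ⟨q, hq, h'⟩ := hs (cj g⁻¹ K ⊓ (Q ⊔ F)) inf_le_right (by
    intro f hf
    obtain ⟨k, hk', e⟩ := (conj_smul_le_iff _ _ _).mp h (π f) ⟨f, hf, rfl⟩
    have h1 : f * (g⁻¹ * k * g⁻¹⁻¹)⁻¹ ∈ Q := by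
      rw [← hk, MonoidHom.mem_ker]
      simp only [map_mul, map_inv, e]
      group
    have h2 : f = f * (g⁻¹ * k * g⁻¹⁻¹)⁻¹ * (g⁻¹ * k * g⁻¹⁻¹) := by group
    rw [h2]
    refine mul_mem_sup h1 ⟨conj_mem_cj _ hk', ?_⟩
    have h3 : g⁻¹ * k * g⁻¹⁻¹ = (f * (g⁻¹ * k * g⁻¹⁻¹)⁻¹)⁻¹ * f := by group
    rw [h3]
    exact mul_mem_sup (Q.inv_mem h1) hf)
  exact ⟨g * q, G.mul_mem hg (hQ.le hq), by rw [cj_mul, cj_le_iff]; exact h'.trans inf_le_left⟩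

/-- the minimal normal case -/
structure Ctx (s : ℕ) (G F P E : Subgroup X) : Prop where
  nG : G.Normal
  top : G ⊔ F = ⊤
  nil : Group.IsNilpotent F
  fpf : G ⊓ 𝒞(F) = ⊥
  ih : Top.{u} (Nat.card G)
  min : ∀ Q : Subgroup X, Q.Normal → Q ≤ G → Q ≠ ⊥ → Q = G
  hP : IsPGroup s P
  PF : P ≤ F
  nP : F ≤ 𝒩(P)
  EF : E ≤ F
  cE : (Nat.card E).Coprime s
  dec : F ≤ P ⊔ E
  nc : ¬ G ≤ 𝒞(P)

namespace Ctx

variable [Finite X] {s : ℕ} [Fact s.Prime] {G F P E : Subgroup X} (c : Ctx s G F P E)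
include c

omit [Finite X] [Fact s.Prime] in
theorem lnG (L : Subgroup X) : L ≤ 𝒩(G) := by
  haveI := c.nG
  rw [normalizer_eq_top]; exact le_top

omit [Finite X] [Fact s.Prime] in
theorem lnY (L : Subgroup X) : L ≤ 𝒩(G ⊔ P) :=
  (le_top.trans c.top.ge).trans (sup_le (le_norm_of_le le_sup_left) (le_norm_sup (c.lnG F) c.nP))

theorem nn {S : Subgroup X} (hS : IsPGroup s S) (hF : F ≤ 𝒩(S)) (hP : P ≤ S) : G ⊓ 𝒩(S) < G := by
  refine lt_of_le_of_ne inf_le_left fun h => c.nc ?_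
  have hG : G ≤ 𝒩(S) := inf_eq_left.mp h
  have hT : ⊤ ≤ 𝒩(S) := c.top.ge.trans (sup_le hG hF)
  by_cases hb : G ⊓ S = ⊥
  · refine le_trans ?_ (cent_mono hP)
    rw [← commutator_eq_bot_iff', eq_bot_iff, ← hb]
    exact le_inf (commutator_le_of_le_norm' (c.lnG S)) (commutator_le_of_le_norm hG)
  · have h1 := inf_cent_ne_bot (hS.to_inf_right (H := G)) hS (le_norm_inf (c.lnG S) le_normalizer) hb
    have h2 := c.min (G ⊓ 𝒞(S))
      (normalizer_eq_top_iff.mp (top_le_iff.mp (le_norm_inf (c.lnG ⊤) (le_norm_cent hT)))) inf_le_left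
      fun h0 => h1 (eq_bot_iff.mpr (h0 ▸ inf_le_inf_right _ inf_le_left))
    exact (inf_eq_left.mp h2).trans (cent_mono hP)

theorem r0 {S L : Subgroup X} (hS : IsPGroup s S) (hF : F ≤ 𝒩(S)) (hP : P ≤ S) (hL : L ≤ 𝒩(S))
    (hGL : G ⊔ L = ⊤) : ∃ g ∈ G ⊓ 𝒩(S), cj g F ≤ L :=
  rel c.ih (card_lt_card_of_lt (c.nn hS hF hP)) (le_norm_inf (c.lnG F) (le_norm_of_le hF)) c.nil
    (eq_bot_iff.mpr (c.fpf ▸ inf_le_inf_right _ inf_le_left)) L
    (hL.trans (ded (c.lnG F) hF (le_top.trans c.top.ge)))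
    (hF.trans (ded (c.lnG L) hL (le_top.trans hGL.ge)))

theorem r1 {S L : Subgroup X} (hS : IsPGroup s S) {g : X} (hg : g ∈ G) (hF : cj g F ≤ 𝒩(S))
    (hP : cj g P ≤ S) (hL : L ≤ 𝒩(S)) (hGL : G ⊔ L = ⊤) : ∃ g ∈ G, cj g F ≤ L ∧ cj g P ≤ S := by
  obtain ⟨h, ⟨hh, hn⟩, hle⟩ := c.r0 (S := cj g⁻¹ S) (L := cj g⁻¹ L) (isPGroup_cj hS _)
    (by rw [← cj_norm, ← cj_le_iff]; exact hF) (cj_le_iff.mp hP)
    (by rw [← cj_norm]; exact cj_mono _ hL)
    (by rw [← cj_eq (c.lnG ⊤ (mem_top g⁻¹)), ← cj_sup, hGL, cj_top])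
  refine ⟨g * h, G.mul_mem hg hh, by rw [cj_mul, cj_le_iff]; exact hle, ?_⟩
  rw [cj_mul, cj_le_iff]
  exact cj_le_of_le (cj_le_iff.mp hP) hn

theorem frat {S T : Subgroup X} (hY : G ⊔ S = G ⊔ P) (hT : IsSylowIn s T ((G ⊔ P) ⊓ 𝒩(S))) (hST : S ≤ T) :
    𝒩(S) ≤ G ⊔ (𝒩(S) ⊓ 𝒩(T)) := by
  refine (frattini_sup hT inf_le_right (le_norm_inf (c.lnY _) le_normalizer)).ge.trans
    (sup_le le_sup_right (inf_le_left.trans (hY.ge.trans (sup_le_sup_left ?_ _))))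
  exact le_inf le_normalizer (le_norm_of_le hST)

omit c in
theorem sylY {S Y : Subgroup X} (hS : IsSylowIn s S (Y ⊓ 𝒩(S))) : IsSylowIn s S Y := by
  refine isSylowIn_of_maximal (hS.le.trans inf_le_left) hS.isPGroup fun U hU h1 h2 => ?_
  by_contra hne
  have h3 := lt_inf_normalizer_of_isPGroup hU (lt_of_le_of_ne h1 (Ne.symm hne))
  exact h3.ne' (hS.eq_of_le hU.to_inf_left h3.le (inf_le_inf_right _ h2))

theorem e1 : ∃ T : Subgroup X, IsSylowIn s T (G ⊔ P) ∧ P ≤ T ∧ F ≤ 𝒩(T) := by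
  obtain ⟨T, hPT, ⟨h1, h2, h3⟩, hmax⟩ := Finite.exists_le_maximal
    (p := fun T : Subgroup X => IsPGroup s T ∧ T ≤ G ⊔ P ∧ F ≤ 𝒩(T)) ⟨c.hP, le_sup_right, c.nP⟩
  obtain ⟨U, hU, hTU⟩ := exists_isSylowIn_ge h1 (le_inf h2 le_normalizer)
  have hY : G ⊔ T = G ⊔ P := le_antisymm (sup_le le_sup_left h2) (sup_le_sup_left hPT _)
  obtain ⟨g, ⟨-, hg⟩, hle⟩ := c.r0 h1 h3 hPT (inf_le_left : 𝒩(T) ⊓ 𝒩(U) ≤ _)
    (top_le_iff.mp (c.top.ge.trans (sup_le le_sup_left (h3.trans (c.frat hY hU hTU)))))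
  have h4 : T ≤ cj g⁻¹ U := cj_le_iff.mp (cj_le_of_le le_rfl hg |>.trans hTU)
  have h5 := hmax (y := cj g⁻¹ U) ⟨isPGroup_cj hU.isPGroup _,
    cj_le_of_le (hU.le.trans inf_le_left) (c.lnY ⊤ (mem_top _)),
    by rw [← cj_norm, ← cj_le_iff]; exact hle.trans inf_le_right⟩ h4
  have h6 : U = T := le_antisymm (by
    rw [← le_cj_iff, cj_eq hg] at h5; exact h5) hTU
  exact ⟨T, sylY (h6 ▸ hU), hPT, h3⟩

omit c in
theorem ple {S D U : Subgroup X} (hD : (Nat.card D).Coprime s) (hn : D ≤ 𝒩(S)) (hU : IsPGroup s U)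
    (h : U ≤ S ⊔ D) : U ≤ S := by
  intro x hx
  obtain ⟨a, ha, b, hb, rfl⟩ := (mem_sup_nr hn).mp (sup_comm S D ▸ h hx)
  refine mem_of_pow_mem_of_coprime (orderOf_coprime_of_mem_isPGroup hU hx hD.symm) ?_
  obtain ⟨k, hk, e⟩ := exists_mul_pow_eq (hn ha) hb (Nat.card D)
  have : a ^ Nat.card D = 1 := congrArg Subtype.val (pow_card_eq_one' (x := (⟨a, ha⟩ : D)))
  rw [e, this, one_mul]
  exact hk

theorem good (S : Subgroup X) : IsPGroup s S → G ⊔ S = G ⊔ P → G ⊔ 𝒩(S) = ⊤ →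
    ∃ g ∈ G, cj g F ≤ 𝒩(S) ∧ cj g P ≤ S := by
  induction S using WellFoundedGT.induction with | ind S ih => ?_
  intro hS hY hN
  have hSY : S ≤ G ⊔ P := le_sup_right.trans hY.le
  obtain ⟨U, hU, hSU⟩ := exists_isSylowIn_ge hS (le_inf hSY le_normalizer)
  rcases hSU.eq_or_lt with rfl | hlt
  · obtain ⟨T, hT, hPT, hFT⟩ := c.e1
    obtain ⟨y, hy, rfl⟩ := syl_conj hT (sylY hU)
    obtain ⟨g, hg, b, hb, rfl⟩ := (mem_sup_nl (c.lnG P)).mp hy
    rw [cj_mul, cj_eq (le_normalizer (hPT hb))]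
    exact ⟨g, hg, by rw [← cj_norm]; exact cj_mono _ hFT, cj_mono _ hPT⟩
  · have hUY : U ≤ G ⊔ P := hU.le.trans inf_le_left
    have hL : G ⊔ (𝒩(S) ⊓ 𝒩(U)) = ⊤ :=
      top_le_iff.mp (hN.ge.trans (sup_le le_sup_left (c.frat hY hU hSU)))
    obtain ⟨g, hg, h1, h2⟩ := ih U hlt hU.isPGroup
      (le_antisymm (sup_le le_sup_left hUY) (hY.ge.trans (sup_le_sup_left hSU _)))
      (top_le_iff.mp (hL.ge.trans (sup_le_sup_left inf_le_right _)))
    obtain ⟨g, hg, h1, h2⟩ := c.r1 hU.isPGroup hg h1 h2 inf_le_right hL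
    have hE := (cj_mono g c.EF).trans h1
    obtain ⟨k, hk, h3, -⟩ := c.r1 (L := S ⊔ cj g E) hU.isPGroup hg (h1.trans inf_le_right) h2
      (sup_le (le_norm_of_le hSU) (hE.trans inf_le_right)) (by
        rw [← sup_assoc, hY, eq_top_iff, ← cj_top g, ← c.top, cj_sup, cj_eq (le_normalizer hg)]
        refine sup_le (le_sup_left.trans le_sup_left) ((cj_mono g c.dec).trans ?_)
        rw [cj_sup]
        exact sup_le_sup_right (h2.trans hUY) _)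
    exact ⟨k, hk, h3.trans (sup_le le_normalizer (hE.trans inf_le_left)),
      ple (by rw [card_cj]; exact c.cE) (hE.trans inf_le_left) (isPGroup_cj c.hP k)
        ((cj_mono k c.PF).trans h3)⟩

theorem step_min {K : Subgroup X} (hK : G ⊔ K = ⊤) : ∃ g ∈ G, cj g F ≤ K := by
  obtain ⟨S, hS⟩ := exists_isSylowIn s (K ⊓ (G ⊔ P))
  have hY : G ⊔ S = G ⊔ P := by
    refine le_antisymm (sup_le le_sup_left (hS.le.trans inf_le_right)) ?_
    have h1 := inf_sup_eq_of_le_norm (Or.inr (c.lnG K)) (le_sup_left : G ≤ G ⊔ P)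
    rw [hK, top_inf_eq] at h1
    refine h1.le.trans (sup_le le_sup_left ((syl_sup_res hS).ge.trans (sup_le le_sup_right ?_)))
    refine (res_mono inf_le_right).trans (le_trans ?_ le_sup_left)
    rw [sup_comm]
    exact res_sup_le_of_isPGroup c.hP (c.lnG P)
  have hL : G ⊔ (K ⊓ 𝒩(S)) = ⊤ := by
    refine top_le_iff.mp (hK.ge.trans (sup_le le_sup_left ?_))
    refine (frattini_sup hS inf_le_left (le_norm_inf le_normalizer (c.lnY K))).ge.trans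
      (sup_le le_sup_right (inf_le_right.trans (hY.ge.trans (sup_le_sup_left ?_ _))))
    exact le_inf (hS.le.trans inf_le_left) le_normalizer
  obtain ⟨g, hg, h1, h2⟩ := c.good S hS.isPGroup hY
    (top_le_iff.mp (hL.ge.trans (sup_le_sup_left inf_le_right _)))
  obtain ⟨k, hk, h3, -⟩ := c.r1 hS.isPGroup hg h1 h2 inf_le_right hL
  exact ⟨k, hk, h3.trans inf_le_left⟩

end Ctx

theorem top (n : ℕ) : Top.{u} n := by
  induction n using Nat.strong_induction_on with | _ n ih => ?_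
  intro X _ _ G F hc hG hGF hF hC K hK
  by_cases hmin : ∃ Q : Subgroup X, Q.Normal ∧ Q < G ∧ Q ≠ ⊥
  · obtain ⟨Q, hQ, h1, h2⟩ := hmin
    exact step_normal (ih _ hc) hGF hF hC h1 h2 hK
  by_cases hs : ∃ s : ℕ, s.Prime ∧ ¬ G ≤ 𝒞(pCoreOf s F)
  · obtain ⟨s, hs, hnc⟩ := hs
    haveI := Fact.mk hs
    refine Ctx.step_min (s := s) (P := pCoreOf s F) (E := pPrimeCoreOf s F) ⟨hG, hGF, hF, hC, ih _ hc,
      fun Q hQ h1 h2 => ?_, core_isP F, core_le F, self_le_norm_core F, pPrimeCoreOf_le s F,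
      pPrimeCoreOf_coprime s F, ?_, hnc⟩ hK
    · by_contra h3
      exact hmin ⟨Q, hQ, lt_of_le_of_ne h1 h3, h2⟩
    · have h := fittingSubgroup_le_pCore_sup_pPrimeCore (G := F) s
      rw [fittingSubgroup_eq_top_iff.mpr hF] at h
      have := Subgroup.map_mono (f := F.subtype) h
      rwa [Subgroup.map_sup, ← MonoidHom.range_eq_map, range_subtype] at this
  · have h1 : F ≤ F ⊓ 𝒞(G) := by
      rw [← relIndex_eq_one, Nat.eq_one_iff_not_exists_prime_dvd]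
      intro p hp
      haveI := Fact.mk hp
      refine (isSylowIn_pCoreOf_of_isNilpotent hF p).not_dvd_relIndex_of_le (le_inf (core_le F) ?_) inf_le_left
      rw [le_centralizer_iff]
      by_contra h
      exact hs ⟨p, hp, h⟩
    have h2 : G = ⊥ := by
      rw [← hC, left_eq_inf, le_centralizer_iff]
      exact h1.trans inf_le_right
    rw [h2, bot_sup_eq] at hK
    exact ⟨1, G.one_mem, hK ▸ le_top⟩

/-- **Main theorem.** `F` nilpotent normalizing `G` with `C_G(F) = 1`: each supplement `K` of `G` in `GF` contains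
a `G`-conjugate of `F`. -/
theorem star [Finite X] {G F : Subgroup X} (hn : F ≤ 𝒩(G)) (hF : Group.IsNilpotent F) (hC : G ⊓ 𝒞(F) = ⊥) :
    St G F :=
  rel (top (Nat.card G + 1)) (Nat.lt_succ_self _) hn hF hC

/-- fixed points in invariant sections (cosets of an `F`-invariant subgroup `Q`) -/
theorem mem_of_fixed [Finite X] {G F Q : Subgroup X} (hn : F ≤ 𝒩(G)) (hF : Group.IsNilpotent F)
    (hC : G ⊓ 𝒞(F) = ⊥) (hQ : Q ≤ G) (hnQ : F ≤ 𝒩(Q)) {g : X} (hg : g ∈ G)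
    (h : ∀ f ∈ F, g⁻¹ * (f * g * f⁻¹) ∈ Q) : g ∈ Q :=
  fix hn hF hC hQ (star hnQ hF (eq_bot_iff.mpr (hC ▸ inf_le_inf_right _ hQ))) hg h

end CL.FH
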