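/-
Fixed-point-free nilpotent groups of operators: fixed points in sections, the unique invariant Sylow subgroup
(no faithfulness, no coprimeness, no solubility assumed).
-/
import Cfsg.Agent.FH.Star
import Cfsg.Agent.Grp.CoprimeAct
import Cfsg.Agent.Grp.ThompsonFpf
import Cfsg.Agent.Grp.FrobKernel

namespace CL.FH

open Cfsg Subgroup CL.Grp CL.Even

section Amb

variable {X : Type*} [Group X] [Finite X] {G F : Subgroup X} {p : ℕ} [Fact p.Prime]

theorem exists_inv_syl (hn : F ≤ 𝒩(G)) (hF : Group.IsNilpotent F) (hC : G ⊓ 𝒞(F) = ⊥) (p : ℕ) [Fact p.Prime] :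
    ∃ S : Subgroup X, IsSylowIn p S G ∧ F ≤ 𝒩(S) := by
  obtain ⟨S, hS⟩ := exists_isSylowIn p G
  obtain ⟨g, hg, h⟩ := star hn hF hC ((G ⊔ F) ⊓ 𝒩(S)) inf_le_left (by
    rw [sup_comm G (_ ⊓ _), frattini_sup hS le_sup_left (sup_le le_normalizer hn)]; exact le_sup_right)
  refine ⟨cj g⁻¹ S, syl_cj_of_mem_norm hS (le_normalizer (G.inv_mem hg)), ?_⟩
  rw [← cj_norm, ← cj_le_iff]
  exact h.trans inf_le_right

theorem inv_syl_unique (hn : F ≤ 𝒩(G)) (hF : Group.IsNilpotent F) (hC : G ⊓ 𝒞(F) = ⊥) {S T : Subgroup X}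
    (hS : IsSylowIn p S G) (hT : IsSylowIn p T G) (h1 : F ≤ 𝒩(S)) (h2 : F ≤ 𝒩(T)) : S = T := by
  obtain ⟨g, hg, rfl⟩ := syl_conj hS hT
  have := mem_of_fixed hn hF hC (inf_le_left : G ⊓ 𝒩(S) ≤ G) (le_norm_inf hn (le_norm_of_le h1)) hg
    fun f hf => by
      refine ⟨G.mul_mem (G.inv_mem hg) (conj_mem (hn hf) hg), ?_⟩
      have h3 := h2 hf
      rw [← cj_norm, mem_cj] at h3
      have := Subgroup.mul_mem _ h3 (Subgroup.inv_mem _ (h1 hf))
      simpa [mul_assoc] using this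
  exact (cj_eq this.2).symm

end Amb

section Act

variable {G F : Type*} [Group G] [Finite G] [Group F] [Finite F] [MulDistribMulAction F G]

omit [Finite G] [Finite F] in
theorem sd_nil (hF : Group.IsNilpotent F) : Group.IsNilpotent (sdInr F G).range :=
  nilpotent_of_surjective _ (sdInr F G).rangeRestrict_surjective

omit [Finite G] [Finite F] in
theorem sd_fpf (hCF : ∀ g : G, (∀ f : F, f • g = g) → g = 1) : (sdInl F G).range ⊓ 𝒞((sdInr F G).range) = ⊥ := by
  rw [eq_bot_iff]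
  rintro _ ⟨⟨g, rfl⟩, h⟩
  rw [hCF g ((sdInl_mem_centralizer_iff g).mp h), map_one]
  exact one_mem _

/-- `F` nilpotent without nontrivial fixed points on `G` fixes no coset `gN ≠ N` of an invariant subgroup `N`. -/
theorem act_mem_of_fixed (hF : Group.IsNilpotent F) (hCF : ∀ g : G, (∀ f : F, f • g = g) → g = 1)
    (N : Subgroup G) (hN : ∀ (f : F) (n : G), n ∈ N → f • n ∈ N) (g : G) (hg : ∀ f : F, g⁻¹ * f • g ∈ N) :
    g ∈ N := by
  have := mem_of_fixed range_sdInr_le_normalizer (sd_nil hF) (sd_fpf hCF) (map_le_range (sdInl F G) N)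
    ((range_sdInr_le_normalizer_iff N).mpr hN) ⟨g, rfl⟩ (by
      rintro _ ⟨f, rfl⟩
      rw [← sdInl_smul, ← map_inv, ← map_mul]
      exact mem_map_of_mem _ (hg f))
  exact (mem_map_iff_mem sdInl_injective).mp this

theorem act_existsUnique_sylow (hF : Group.IsNilpotent F) (hCF : ∀ g : G, (∀ f : F, f • g = g) → g = 1)
    (p : ℕ) [Fact p.Prime] :
    ∃! P : Sylow p G, ∀ (f : F) (x : G), x ∈ (P : Subgroup G) → f • x ∈ (P : Subgroup G) := by
  obtain ⟨S, hS, hn⟩ := exists_inv_syl range_sdInr_le_normalizer (sd_nil hF) (sd_fpf hCF) p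
  have e := map_comap_eq_self hS.le
  rw [← e, MonoidHom.range_eq_map, isSylowIn_map_sdInl_iff, isSylowIn_top_iff] at hS
  obtain ⟨P, hP⟩ := hS
  rw [← e, ← hP] at hn
  refine ⟨P, (range_sdInr_le_normalizer_iff _).mp hn, fun Q hQ => Sylow.ext ?_⟩
  refine map_injective (sdInl_injective (A := F)) (inv_syl_unique (p := p) range_sdInr_le_normalizer (sd_nil hF)
    (sd_fpf hCF) ?_ ?_ ((range_sdInr_le_normalizer_iff _).mpr hQ) hn) <;>
  · rw [MonoidHom.range_eq_map, isSylowIn_map_sdInl_iff]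
    exact isSylowIn_top _

end Act

section Sub

variable {G A : Type*} [Group G] [Finite G] [Group A] [Finite A] [MulDistribMulAction A G] {Fk : Subgroup A}

/-- subgroup version of `act_mem_of_fixed` -/
theorem sub_mem_of_fixed (hF : Group.IsNilpotent Fk) (hCF : ∀ g : G, (∀ f ∈ Fk, f • g = g) → g = 1)
    (N : Subgroup G) (hN : ∀ f ∈ Fk, ∀ n ∈ N, f • n ∈ N) (g : G) (hg : ∀ f ∈ Fk, g⁻¹ * f • g ∈ N) : g ∈ N :=
  act_mem_of_fixed hF (fun g h => hCF g fun f hf => h ⟨f, hf⟩) N (fun f => hN f f.2) g fun f => hg f f.2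

/-- a normal nilpotent `Fk` without fixed points: exactly one `A`-invariant Sylow `p`-subgroup -/
theorem sub_existsUnique_sylow [hn : Fk.Normal] (hF : Group.IsNilpotent Fk)
    (hCF : ∀ g : G, (∀ f ∈ Fk, f • g = g) → g = 1) (p : ℕ) [Fact p.Prime] :
    ∃! P : Sylow p G, ∀ (a : A) (x : G), x ∈ (P : Subgroup G) → a • x ∈ (P : Subgroup G) := by
  obtain ⟨P, hP, hu⟩ := act_existsUnique_sylow hF (fun g h => hCF g fun f hf => h ⟨f, hf⟩) p
  refine ⟨P, fun a x hx => ?_, fun Q hQ => hu Q fun f => hQ f⟩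
  have := hu (a⁻¹ • P) fun f y hy => by
    rw [Sylow.pointwise_smul_def, mem_inv_pointwise_smul_iff] at hy ⊢
    have := hP ⟨a * f * a⁻¹, hn.conj_mem _ f.2 a⟩ _ hy
    rwa [Subgroup.mk_smul, ← mul_smul, inv_mul_cancel_right, mul_smul] at this
  rw [← this, Sylow.pointwise_smul_def, mem_inv_pointwise_smul_iff] at hx
  exact hx

omit [Finite G] [MulDistribMulAction A G] in
theorem frob_nil {Hc : Subgroup A} (hHc : IsFrobeniusComplement Hc) (hker : frobeniusKernel Hc = (Fk : Set A)) :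
    Group.IsNilpotent Fk := by
  obtain ⟨K, h1, h2, -, -, h4, -⟩ := exists_frobenius_kernel hHc
  have : K = Fk := SetLike.coe_injective (h1.trans hker)
  exact this ▸ isNilpotent_of_fpf_subgroup hHc.1 le_normalizer_of_normal h4

end Sub

end CL.FH
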